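import Cfsg.Agent.Lib.TransvUniq.M24.Sextet.Defs

/-! The checks for the sextet side, evaluated. -/

set_option autoImplicit false
set_option maxRecDepth 100000
set_option maxHeartbeats 1000000
set_option Elab.async false

namespace Cfsg.Agent.TransvUniq.M24.Sextet

open Cfsg.Agent.HeUniq.Model Cfsg.Agent.HeUniq.Local

theorem eM_ok : allB eM 64 = true := by decide +kernel

theorem colourM_ok : (List.range 2).all (fun s => allB (colourM s) 204) = true := by decide +kernel

theorem baseM_ok : (List.range 2).all baseM = true := by decide +kernel

theorem dS_ok : allB dSOK 96 = true ∧ allB (fun a => Nat.blt (dS a) 64) 48 = true ∧ dS e48 = 0 := by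
  decide +kernel

theorem cocM_ok : allB cocM 4096 = true := by decide +kernel

end Cfsg.Agent.TransvUniq.M24.Sextet
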