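import Cfsg.Agent.Lib.HeUniq.Local.Exists
import Cfsg.Agent.Lib.TransvUniq.M24.Sextet.Chk

/-!
The sextet group `2^6:3S6` in a group with fusion mask 121, as the affine codes of the Held side with the twisted
identification inside the centraliser.
-/

set_option autoImplicit false
set_option maxRecDepth 20000

namespace Cfsg.Agent.TransvUniq.M24.Sextet

open Cfsg.Agent.HeUniq Cfsg.Agent.HeUniq.Model Cfsg.Agent.HeUniq.Fus Cfsg.Agent.HeUniq.Local

variable {G : Type*} [Group G] {t : G} (F : Frame G t)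

/-- The sextet group, mapped into `G`. -/
structure Sx where
  /-- the element of an affine code -/
  g : ℕ → G
  mul : ∀ a b, InM a → InM b → g (mM a b) = g a * g b
  inj : ∀ a b, InM a → InM b → g a = g b → a = b
  pair : ∀ a < 48, ∀ v < 64, g (md (64 * qA a + v)) = elt F (v ^^^ dS a) * F.f (kA1 a)

theorem xor4 (a b c d : ℕ) : a ^^^ b ^^^ (c ^^^ d) = a ^^^ c ^^^ (b ^^^ d) := by
  refine Nat.eq_of_testBit_eq fun i => ?_
  simp only [Nat.testBit_xor]
  cases a.testBit i <;> cases b.testBit i <;> cases c.testBit i <;> cases d.testBit i <;> rfl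

theorem shift {d s v w : ℕ} (h : d ^^^ s = v ^^^ w) : v ^^^ d ^^^ w = s := by
  have : v ^^^ d ^^^ w = (d ^^^ s) ^^^ (v ^^^ w) ^^^ s := by
    refine Nat.eq_of_testBit_eq fun i => ?_
    simp only [Nat.testBit_xor]
    cases d.testBit i <;> cases s.testBit i <;> cases v.testBit i <;> cases w.testBit i <;> rfl
  rw [this, h, Nat.xor_self, Nat.zero_xor]

theorem eM_facts {v : ℕ} (hv : v < 64) : InC (eA v) ∧ (v ≠ 0 → eA v ≠ oneC ∧ cmemM (eA v) = smem v) ∧
    ∀ w < 64, mC (eA v) (eA w) = eA (v ^^^ w) := by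
  obtain ⟨h1, h2, h3⟩ := e_facts hv
  refine ⟨h1, fun h0 => ⟨(h2 h0).1, ?_⟩, h3⟩
  have h := allB_spec eM_ok v hv
  simp only [eM, Bool.or_eq_true, Nat.beq_eq] at h
  exact h.resolve_left h0

theorem cmemM_conj (hm : mask F = 121) {a b : ℕ} (ha : InC a) (hb : InC b) {g : G}
    (h : g * F.f a * g⁻¹ = F.f b) : cmemM a = cmemM b := by
  have := memG_conj (t := t) g (F.f a)
  rwa [h, memG_code F ha, memG_code F hb, hm, eq_comm] at this

theorem exists_move (hm : mask F = 121) {u k : ℕ} (hu : InC u) (hk : k = 4 ∨ k = 6) (hcu : cls u = k)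
    (hcuz : cls (mC zC u) = k) : ∃ h : G, h * F.f u * h⁻¹ = F.f u ∧ h * t * h⁻¹ = t * F.f u := by
  have hk8 : k < 8 := by omega
  have hkm : (mask F).testBit k = true := by rw [hm]; rcases hk with rfl | rfl <;> rfl
  have hcu' : cls u < 8 := by omega
  obtain ⟨c0, hc0t, hc0⟩ := to_rep F hcu'
  rw [hcu] at hc0
  obtain ⟨d, hd, hd5, hdm, g, hg6, hgt⟩ := swap F (k := k) hk8 (by omega) hkm
  have hG : (g * c0) * F.f u * (g * c0)⁻¹ = t := by
    rw [mul_inv_rev, show g * c0 * F.f u * (c0⁻¹ * g⁻¹) = g * (c0 * F.f u * c0⁻¹) * g⁻¹ by group, hc0, hg6]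
  have hGt : (g * c0) * t * (g * c0)⁻¹ = F.f (repC d) := by
    rw [mul_inv_rev, show g * c0 * t * (c0⁻¹ * g⁻¹) = g * (c0 * t) * c0⁻¹ * g⁻¹ by group, hc0t,
      show g * (t * c0) * c0⁻¹ * g⁻¹ = g * t * g⁻¹ by group, hgt]
  generalize g * c0 = p at hG hGt
  have hdrep := (rep_cd hd).1
  have hutX : IsConj t (F.f (repC d) * t) := by
    have hx : IsConj t (t * F.f u) := by
      have h' := conj_iff F (show cls (mC zC u) < 8 by rw [hcuz]; exact hk8)
      rw [F.mul inC_z hu, F.fz, hcuz] at h'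
      exact h'.2 hkm
    refine hx.trans (isConj_iff.2 ⟨p, ?_⟩)
    rw [← conj_mul, hG, hGt]
  have hsame : cls (mC (repC d) zC) = d := by
    have hmm : ∀ j < 8, (121 : ℕ).testBit j = true → j ≠ 5 → j = 0 ∨ j ∈ ([1, 3, 4, 6] : List ℕ) := by decide
    rw [hm] at hdm
    rcases hmm d hd hdm hd5 with rfl | h
    · exfalso
      have hc : cls (mC (repC 0) zC) < 8 := by rw [Excl.rep0_z_cls]; norm_num
      have h' := conj_iff F hc
      rw [F.mul hdrep inC_z, F.fz, Excl.rep0_z_cls, hm] at h'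
      exact Bool.noConfusion (h'.1 hutX)
    · exact Excl.rep_z_cls d hd h
  obtain ⟨c1, hc1t, hc1⟩ := to_rep F (show cls (mC (repC d) zC) < 8 by rw [hsame]; exact hd)
  rw [hsame, F.mul hdrep inC_z, F.fz] at hc1
  have hc1i : c1⁻¹ * t * c1 = t := by rw [mul_assoc, ← hc1t, inv_mul_cancel_left]
  have e1 : p⁻¹ * t * p = F.f u := (congrArg (fun y => p⁻¹ * y * p) hG.symm).trans (by group)
  have e2 : c1⁻¹ * F.f (repC d) * c1 = F.f (repC d) * t :=
    (congrArg (fun y => c1⁻¹ * y * c1) hc1.symm).trans (by group)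
  refine ⟨p⁻¹ * c1⁻¹ * p, ?_, ?_⟩
  · calc p⁻¹ * c1⁻¹ * p * F.f u * (p⁻¹ * c1⁻¹ * p)⁻¹ = p⁻¹ * (c1⁻¹ * (p * F.f u * p⁻¹) * c1) * p := by group
      _ = F.f u := by rw [hG, hc1i, e1]
  · calc p⁻¹ * c1⁻¹ * p * t * (p⁻¹ * c1⁻¹ * p)⁻¹ = p⁻¹ * (c1⁻¹ * (p * t * p⁻¹) * c1) * p := by group
      _ = p⁻¹ * ((p * t * p⁻¹) * (p * F.f u * p⁻¹)) * p := by rw [hGt, e2, hG]
      _ = t * F.f u := by group

attribute [local irreducible] hA hP pos

set_option maxHeartbeats 1000000 in
theorem exists_normal (hm : mask F = 121) {s : ℕ} (hs : s < 2) :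
    ∃ n : G, n * t * n⁻¹ = t * elt F (w0 s) ∧ ∀ v < 64, ∃ v' < 64, n * elt F v * n⁻¹ = elt F v' := by
  obtain ⟨hw64, hw164, hc1, hc2⟩ := w0_facts hs
  obtain ⟨h, hu, ht⟩ : ∃ h : G, h * elt F (w0 s) * h⁻¹ = elt F (w0 s) ∧ h * t * h⁻¹ = t * elt F (w0 s) :=
    exists_move F hm (elt_inC hw64) (k := bif Nat.beq s 0 then 4 else 6)
    (by cases Nat.beq s 0 <;> simp) hc1 hc2
  obtain ⟨φ, hφ⟩ := exists_perm F hs hu ht
  have hC : ∀ i : Fin 204, InC (hA s i) := fun i => (hA_facts F hs i.2).1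
  have hcomm : ∀ i j : Fin 204, commC (hA s (φ i)) (hA s (φ j)) = commC (hA s i) (hA s j) := by
    intro i j
    rw [Bool.eq_iff_iff, commC_iff F (hC _) (hC _), commC_iff F (hC _) (hC _), hφ, hφ, conj_mul, conj_mul,
      mul_left_inj, mul_right_inj]
  have hcount : ∀ g g' : ℕ → Bool, (∀ j : Fin 204, g' (φ j) = g j) → cnt g' 204 = cnt g 204 := by
    intro g g' hg
    rw [cnt_fin, cnt_fin]
    refine (Fintype.card_congr (φ.subtypeEquiv fun j => ?_)).symm
    rw [hg]
  have hpure : ∀ i : Fin 204, pureM s i = true → pureM s (φ i) = true := by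
    intro i hp
    simp only [pureM, List.all_eq_true, Nat.beq_eq] at hp ⊢
    intro w hw
    obtain ⟨w', hw', e⟩ := four_move F hs hu ht hw
    refine (cmemM_conj F hm (g := h) ((hC i).mul (four_inC hs hw')) ((hC _).mul (four_inC hs hw)) ?_).symm.trans (hp w' hw')
    rw [F.mul (hC i) (four_inC hs hw'), F.mul (hC _) (four_inC hs hw), ← conj_mul, e, hφ]
  have hb := baseM_ok
  simp only [List.all_eq_true, List.mem_range] at hb
  have hb := hb s hs
  simp only [baseM, Bool.and_eq_true, Bool.or_eq_true, Nat.blt_eq, Nat.beq_eq, List.all_eq_true, List.mem_range,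
    List.any_eq_true] at hb
  obtain ⟨⟨⟨⟨⟨⟨⟨⟨hp0, hq0⟩, hpq⟩, hpp⟩, hqp⟩, hpc⟩, hqc⟩, hboth⟩, hunit⟩ := hb
  have hr := row_ok
  simp only [List.all_eq_true, List.mem_range, Bool.and_eq_true] at hr
  have hrow : ∀ p < nP s, pP s p < 204 ∧ ∀ j < 204, (rowP s p).testBit j = commC (hA s (pP s p)) (hA s j) := by
    intro p hp
    have h := allB_spec (hr s hs).1 p hp
    simp only [rowOK, Bool.and_eq_true, Nat.blt_eq] at h
    exact ⟨h.1, fun j hj => by simpa using allB_spec h.2 j hj⟩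
  have himage : ∀ p < nP s, pureM s (pP s p) = true →
      cnt (fun j => commC (hA s (pP s p)) (hA s j)) 204 = kP s →
      ∃ p' < nP s, ∀ j : Fin 204, (rowP s p').testBit (φ j) = (rowP s p).testBit j ∧
        ∀ q : Fin 204, (q : ℕ) = pP s p → (φ q : ℕ) = pP s p' := by
    intro p hp hpure' hcnt
    obtain ⟨h1, h2⟩ := hrow p hp
    let i : Fin 204 := ⟨_, h1⟩
    have hk := colourM_ok
    simp only [List.all_eq_true, List.mem_range] at hk
    have hk := allB_spec (hk s hs) _ (φ i).2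
    simp only [colourM, Bool.or_eq_true, Bool.not_eq_true', List.any_eq_true, List.mem_range, Nat.beq_eq,
      hpure i hpure'] at hk
    rcases hk with (hk | ⟨p', hp', hpp'⟩) | hk
    · exact Bool.noConfusion hk
    · refine ⟨p', hp', fun j => ⟨?_, fun q hq => ?_⟩⟩
      · rw [(hrow p' hp').2 _ (φ j).2, h2 _ j.2, hpp']
        exact hcomm i j
      · rw [hpp', show q = i from Fin.ext hq]
    · exfalso
      rw [hcount (fun j => commC (hA s i) (hA s j)) (fun j => commC (hA s (φ i)) (hA s j)) fun j => hcomm i j,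
        hcnt, Nat.beq_refl] at hk
      exact Bool.noConfusion hk
  obtain ⟨p', hp', hP'⟩ := himage _ hp0 hpp hpc
  obtain ⟨q', hq', hQ'⟩ := himage _ hq0 hqp hqc
  have hk := pair_ok
  simp only [List.all_eq_true, List.mem_range] at hk
  have hn0 : 0 < nP s := by omega
  have hk := allB_spec (hk s hs) (p' * nP s + q') (calc p' * nP s + q' < p' * nP s + nP s := by omega
    _ = (p' + 1) * nP s := by ring
    _ ≤ nP s * nP s := Nat.mul_le_mul_right _ hp')
  have hd1 : (p' * nP s + q') / nP s = p' := by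
    rw [Nat.mul_comm, Nat.mul_add_div hn0, Nat.div_eq_of_lt hq', Nat.add_zero]
  have hd2 : (p' * nP s + q') % nP s = q' := by
    rw [Nat.mul_comm, Nat.mul_add_mod, Nat.mod_eq_of_lt hq']
  simp only [pairP, hd1, hd2, Bool.or_eq_true, Bool.not_eq_true', List.any_eq_true, List.mem_range,
    Nat.beq_eq] at hk
  have hqq : (rowP s p').testBit (pP s q') = true := by
    let j : Fin 204 := ⟨_, (hrow _ hq0).1⟩
    rw [← (hQ' j).2 j rfl, (hP' j).1]
    exact hpq
  rcases hk with (hk | hk) | ⟨c, hc, hsub⟩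
  · rw [hqq] at hk; exact Bool.noConfusion hk
  · exfalso
    rw [hcount (fun j => (rowP s (p0 s)).testBit j && (rowP s (q0 s)).testBit j)
      (fun j => (rowP s p').testBit j && (rowP s q').testBit j) fun j => by rw [(hP' j).1, (hQ' j).1],
      hboth, Nat.beq_refl] at hk
    exact Bool.noConfusion hk
  have hcs := allB_spec (hr s hs).2 c hc
  simp only [csOK, Bool.and_eq_true, Nat.blt_eq] at hcs
  obtain ⟨⟨hci, hcu⟩, hcm⟩ := hcs
  have hcC : InC (csA s c) := inC_cd hci
  have hcu' : F.f (csA s c) * elt F (w0 s) = elt F (w0 s) * F.f (csA s c) :=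
    (commC_iff F hcC (elt_inC hw64)).1 hcu
  have hct : F.f (csA s c) * t = t * F.f (csA s c) := F.cent hcC
  have hconj : ∀ {x y : G}, x * y = y * x → x * y * x⁻¹ = y := fun {x y} e => by
    rw [e, mul_inv_cancel_right]
  refine ⟨F.f (csA s c) * h, ?_, ?_⟩
  · rw [show F.f (csA s c) * h * t * (F.f (csA s c) * h)⁻¹ =
      F.f (csA s c) * (h * t * h⁻¹) * (F.f (csA s c))⁻¹ by group, ht, ← conj_mul, hconj hct, hconj hcu']
  refine lin_ext ⟨0, by norm_num, by rw [elt_zero, mul_one, mul_inv_cancel]⟩ ?_ ?_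
  · intro k hk6
    rw [show F.f (csA s c) * h * elt F (2 ^ k) * (F.f (csA s c) * h)⁻¹ =
      F.f (csA s c) * (h * elt F (2 ^ k) * h⁻¹) * (F.f (csA s c))⁻¹ by group]
    rcases hunit k hk6 with ⟨w, hw, e⟩ | ⟨⟨⟨hu1, hu2⟩, hu3⟩, hu4⟩
    · have he : ∃ v < 64, h * elt F (2 ^ k) * h⁻¹ = elt F v ∧ F.f (csA s c) * elt F v = elt F v * F.f (csA s c) := by
        show ∃ v < 64, h * F.f (eA (2 ^ k)) * h⁻¹ = _ ∧ _
        rw [← e]
        simp only [fourS, List.mem_cons, List.not_mem_nil, or_false] at hw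
        rcases hw with rfl | rfl | rfl | rfl
        · exact ⟨0, by norm_num, by rw [F.one, mul_one, mul_inv_cancel, elt_zero], by rw [elt_zero]; simp⟩
        · refine ⟨1 ^^^ w0 s, hw164, by rw [F.fz, ht, ← elt_mul F (by norm_num) hw64, elt_one], ?_⟩
          rw [← elt_mul F (by norm_num) hw64, elt_one, ← mul_assoc, hct, mul_assoc, hcu', mul_assoc]
        · exact ⟨_, hw64, hu, hcu'⟩
        · refine ⟨1, by norm_num, ?_, by rw [elt_one]; exact hct⟩
          show h * elt F (1 ^^^ w0 s) * h⁻¹ = _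
          rw [← elt_mul F (by norm_num) hw64, elt_one, ← conj_mul, ht, hu, mul_assoc, elt_mul F hw64 hw64,
            Nat.xor_self, elt_zero, mul_one]
      obtain ⟨v, hv, e1, e2⟩ := he
      exact ⟨v, hv, by rw [e1, hconj e2]⟩
    · let j : Fin 204 := ⟨_, hu1⟩
      have hbit : (cmA s c).testBit (φ j) = true := by
        have : ((rowP s p').testBit (φ j) && (rowP s q').testBit (φ j) && (cmA s c).testBit (φ j)) =
            ((rowP s p').testBit (φ j) && (rowP s q').testBit (φ j)) := by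
          rw [← Nat.testBit_and, ← Nat.testBit_and]
          exact congrArg (·.testBit (φ j : ℕ)) hsub
        rw [(hP' j).1, (hQ' j).1] at this
        rw [show (rowP s (p0 s)).testBit j = true from hu3, show (rowP s (q0 s)).testBit j = true from hu4] at this
        simpa using this
      have hv := allB_spec hcm _ (φ j).2
      simp only [hbit, Bool.not_true, Bool.false_or, List.any_eq_true, List.mem_range, Nat.beq_eq] at hv
      obtain ⟨v, hv, e⟩ := hv
      refine ⟨v, hv, ?_⟩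
      have e' : F.f (csA s c) * F.f (hA s (φ j)) = elt F v * F.f (csA s c) := by
        rw [elt, ← F.mul hcC (hC _), e, F.mul (elt_inC hv) hcC]
      rw [elt, ← hu2, ← show F.f (hA s (φ j)) = h * F.f (hA s (unitA s k)) * h⁻¹ from hφ j, e',
        mul_inv_cancel_right]
  · intro v hv w hw ⟨v', hv', e1⟩ ⟨w', hw', e2⟩
    exact ⟨v' ^^^ w', Nat.xor_lt_two_pow (n := 6) hv' hw', by
      rw [← elt_mul F hv hw, ← conj_mul, e1, e2, elt_mul F hv' hw']⟩

theorem exists_gen_lift (hm : mask F = 121) {g : ℕ} (hg : g < 4) : ∃ n : G, Lift F (genI g) n := by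
  have hb := base_ok
  simp only [baseAllOK, Bool.and_eq_true, Nat.blt_eq, Nat.beq_eq] at hb
  rcases Nat.lt_or_ge g 2 with hg2 | hg2
  · interval_cases g
    · exact ⟨_, (show genI 0 = qA (gA 0) by tauto) ▸ (lift_k F (show gA 0 < 48 by tauto)).2.2⟩
    · exact ⟨_, (show genI 1 = qA (gA 1) by tauto) ▸ (lift_k F (show gA 1 < 48 by tauto)).2.2⟩
  obtain ⟨s, rfl⟩ : ∃ s, g = 2 + s := ⟨g - 2, by omega⟩
  have hs : s < 2 := by omega
  obtain ⟨n, hnt, hn⟩ := exists_normal F hm hs
  choose ρ hρ64 hρ using hn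
  let K := ρ 1 (by norm_num) + 64 * ρ 2 (by norm_num) + 4096 * ρ 4 (by norm_num) + 262144 * ρ 8 (by norm_num) +
    16777216 * ρ 16 (by norm_num) + 1073741824 * ρ 32 (by norm_num)
  have b1 := hρ64 1 (by norm_num)
  have b2 := hρ64 2 (by norm_num)
  have b3 := hρ64 4 (by norm_num)
  have b4 := hρ64 8 (by norm_num)
  have b5 := hρ64 16 (by norm_num)
  have b6 := hρ64 32 (by norm_num)
  have hunit : ∀ k (hk : k < 6), pk K 6 k = ρ (2 ^ k) (Nat.pow_lt_pow_right (by norm_num) hk) := by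
    intro k hk
    rw [pk_six, Nat.shiftRight_eq_div_pow]
    interval_cases k <;> (simp only [K]; norm_num; omega)
  have happ : ∀ v < 64, n * elt F v * n⁻¹ = elt F (aplK K v) := by
    refine lin_ext ?_ ?_ ?_
    · rw [aplK_zero, elt_zero, mul_one, mul_inv_cancel]
    · intro k hk
      rw [aplK_unit K hk, hunit k hk]
      exact hρ _ _
    · intro v hv w hw e1 e2
      rw [← elt_mul F hv hw, ← conj_mul, e1, e2, elt_mul F (aplK_lt _ _) (aplK_lt _ _), aplK_xor]
  have hK : ∀ p < 64, p ≠ 0 → aplK K p ≠ 0 ∧ smem p = smem (aplK K p) := by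
    intro p hp h0
    have hne : aplK K p ≠ 0 := fun e => by
      have := happ p hp
      rw [e, elt_zero, conj_eq_one_iff] at this
      exact h0 (elt_inj F hp (by norm_num) (this.trans (elt_zero F).symm))
    refine ⟨hne, ?_⟩
    rw [← ((eM_facts hp).2.1 h0).2, ← ((eM_facts (aplK_lt _ _)).2.1 hne).2]
    exact cmemM_conj F hm (elt_inC hp) (elt_inC (aplK_lt _ _)) (happ p hp)
  have hside := side_ok
  simp only [List.all_eq_true, List.mem_range, Bool.and_eq_true] at hside
  obtain ⟨⟨-, hcos⟩, hsrch⟩ := hside s hs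
  have hK6 : K < 64 ^ 6 := by simp only [K]; norm_num; omega
  have hone : K % 64 = 1 ^^^ w0 s := by
    have e := happ 1 (by norm_num)
    rw [elt_one F] at e
    rw [hnt] at e
    rw [show (1 : ℕ) = 2 ^ 0 from rfl, aplK_unit K (by norm_num)] at e
    refine elt_inj F (Nat.mod_lt _ (by norm_num)) (w0_facts hs).2.1 ?_
    rw [← elt_mul F (by norm_num) (w0_facts hs).1, elt_one, e]
    rfl
  obtain ⟨j, hj, hjK⟩ := srch_sound hK hK6 5 le_rfl (by rw [show 6 - 5 = 1 from rfl, pow_one, hone]; exact hsrch)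
  have hc := allB_spec hcos j hj
  simp only [cosOK, Bool.and_eq_true, Nat.blt_eq, Nat.beq_eq] at hc
  obtain ⟨⟨hi, ha⟩, hprod⟩ := hc
  have hL : Lift F (cosI s j) n := fun v hv => by rw [app, hjK]; exact happ v hv
  exact ⟨_, hL.mul F hi (lift_k F ha).1 (isProd_of_code (genI_lt (by omega)) hprod) (lift_k F ha).2.2⟩

theorem exists_lift (hm : mask F = 121) : ∀ i < 2160, ∃ n : G, Lift F i n := by
  refine stab_induction ⟨1, lift_one F⟩ ?_
  intro g hg i hi ⟨m, hm'⟩
  obtain ⟨n, hn⟩ := exists_gen_lift F hm hg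
  exact ⟨_, hn.mul F (genI_lt hg) hi (step_facts hg hi) hm'⟩

variable {F}

theorem exists_good (hm : mask F = 121) {N : G} (hN : Lift F zI1 N) {i : ℕ} (hi : i < 2160) :
    ∃ n, Good F N i n := by
  obtain ⟨hz11, -⟩ := prod_zI
  obtain ⟨-, -, h3, h4, -, -⟩ := base_facts
  obtain ⟨n, hn⟩ := exists_lift F hm i hi
  obtain ⟨z, hz, hzi⟩ := zeta_conj hi
  obtain ⟨Nz, hNz, hNzL⟩ : ∃ Nz : G, (Nz = N ∨ Nz = N * N) ∧ Lift F z Nz := by
    rcases hz with rfl | rfl
    · exact ⟨N, Or.inl rfl, hN⟩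
    · exact ⟨N * N, Or.inr rfl, hN.mul F h3 h3 hz11 hN⟩
  have hz' : z < 2160 := by rcases hz with rfl | rfl <;> assumption
  have hL : Lift F z (n * N * n⁻¹) := fun v hv => by
    obtain ⟨k, hk⟩ := exists_prod i hi zI1 h3
    have hk' : IsProd z i k := ⟨hk.1, hzi.symm.trans hk.2⟩
    have key : ∀ w < 64, app z (app i w) = app i (app zI1 w) := fun w hw => by
      rw [← isProd_app hz' hi hk' w hw, isProd_app hi h3 hk w hw]
    have hsur : ∃ w < 64, app i w = v := by
      let f : Fin 64 → Fin 64 := fun w => ⟨app i w, app_lt _ _⟩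
      have hf : Function.Injective f := fun a b e => by
        have e' : app i a = app i b := congrArg Fin.val e
        have h' : n * elt F a * n⁻¹ = n * elt F b * n⁻¹ := by rw [hn a a.2, hn b b.2, e']
        exact Fin.ext (elt_inj F a.2 b.2 (mul_left_cancel (mul_right_cancel h')))
      obtain ⟨w, hw⟩ := (Finite.injective_iff_surjective.1 hf) ⟨v, hv⟩
      exact ⟨w, w.2, congrArg Fin.val hw⟩
    obtain ⟨w, hw, rfl⟩ := hsur
    rw [key w hw, ← hn _ (app_lt _ _), ← hN w hw, ← hn w hw]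
    group
  obtain ⟨u, hu, e⟩ := Lift.unique F hNzL hL
  obtain ⟨v, hv, hvu⟩ := (fpf hz).2 u hu
  refine ⟨elt F v * n, ?_, ?_⟩
  · intro w hw
    rw [mul_inv_rev, show elt F v * n * elt F w * (n⁻¹ * (elt F v)⁻¹) =
      elt F v * (n * elt F w * n⁻¹) * (elt F v)⁻¹ by group, hn w hw, elt_comm F hv (app_lt _ _), mul_inv_cancel_right]
  · have hrot : elt F v * n * N * (elt F v * n)⁻¹ = Nz := by
      rw [mul_inv_rev, show elt F v * n * N * (n⁻¹ * (elt F v)⁻¹) = elt F v * (n * N * n⁻¹) * (elt F v)⁻¹ by group,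
        e, elt_inv F hv, mul_assoc, mul_assoc, hNzL.push F hv, ← mul_assoc, ← mul_assoc, elt_mul F hv hu,
        elt_mul F (Nat.xor_lt_two_pow (n := 6) hv hu) (app_lt _ _)]
      rw [← hvu, ← Nat.xor_assoc v v, Nat.xor_self, Nat.zero_xor, Nat.xor_self, elt_zero, one_mul]
    rw [hrot]
    exact hNz

/-- the complement agreeing with the centraliser -/
theorem exists_complement (hm : mask F = 121) : ∃ κ : ℕ → G, (∀ i < 2160, Lift F i (κ i)) ∧
    (∀ i < 2160, ∀ j < 2160, ∀ k, IsProd i j k → κ k = κ i * κ j) ∧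
    ∀ a < 48, κ (qA a) = elt F (dS a) * F.f (kA1 a) := by
  classical
  obtain ⟨-, hid, h3, -, -, -⟩ := base_facts
  obtain ⟨N, hN⟩ := exists_lift F hm zI1 h3
  let κ : ℕ → G := fun i => if h : i < 2160 then Classical.choose (exists_good hm hN h) else 1
  have kgood : ∀ i < 2160, Good F N i (κ i) := fun i hi => by
    simp only [κ, dif_pos hi]; exact Classical.choose_spec (exists_good hm hN hi)
  have kmul : ∀ i < 2160, ∀ j < 2160, ∀ k, IsProd i j k → κ k = κ i * κ j := fun i hi j hj k hk =>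
    good_unique hN (kgood k hk.1) (good_mul hN hi hj hk (kgood i hi) (kgood j hj))
  obtain ⟨g0, g1, he48, hqe, hke, hwit⟩ := gA_facts
  have hex : ∀ a : Fin 48, ∃ d < 64, κ (qA a) = elt F d * F.f (kA1 a) := fun a =>
    Lift.unique F (lift_k F a.2).2.2 (kgood _ (lift_k F a.2).1).1
  choose df hdf64 hdf using hex
  let d : ℕ → ℕ := fun a => if h : a < 48 then df ⟨a, h⟩ else 0
  have d64 : ∀ a, d a < 64 := fun a => by
    simp only [d]; split
    · exact hdf64 _
    · norm_num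
  have dspec : ∀ a < 48, κ (qA a) = elt F (d a) * F.f (kA1 a) := fun a ha => by
    simp only [d, dif_pos ha]; exact hdf ⟨a, ha⟩
  have hg : ∀ g < 2, gA g < 48 := fun g hg => by interval_cases g <;> assumption
  have d0 : d e48 = 0 := by
    have h := dspec e48 he48
    rw [hqe, hke, F.one, mul_one, good_unique hN (kgood idI hid) good_one] at h
    exact elt_inj F (d64 _) (by norm_num) (h.symm.trans (elt_zero F).symm)
  have dmul : ∀ g < 2, ∀ b < 48, d (nxA g b) = d (gA g) ^^^ app (qA (gA g)) (d b) := by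
    intro g hg2 b hb
    obtain ⟨hnx, hmul, hP⟩ := nx_facts hg2 hb
    obtain ⟨hq, hC, hL⟩ := lift_k F (hg g hg2)
    have h := kmul _ hq _ (lift_k F hb).1 _ hP
    rw [dspec _ hnx, dspec _ (hg g hg2), dspec _ hb, mul_assoc, ← mul_assoc (F.f (kA1 (gA g))), hL.push F (d64 b),
      mul_assoc, ← F.mul hC (lift_k F hb).2.1, hmul, ← mul_assoc, elt_mul F (d64 _) (app_lt _ _)] at h
    exact elt_inj F (d64 _) (Nat.xor_lt_two_pow (n := 6) (d64 _) (app_lt _ _)) (mul_right_cancel h)
  have hdC := dC_eq d0 dmul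
  have hS : ∀ a < 48, dS a < 64 := fun a ha => by simpa using allB_spec dS_ok.2.1 a ha
  have hSmul : ∀ g < 2, ∀ b < 48, dS (nxA g b) = dS (gA g) ^^^ app (qA (gA g)) (dS b) := by
    intro g hg2 b hb
    have h := allB_spec dS_ok.1 (48 * g + b) (by omega)
    simp only [show (48 * g + b) / 48 = g by omega, show (48 * g + b) % 48 = b by omega, dSOK, Bool.and_eq_true,
      Nat.beq_eq] at h
    exact h.2
  have hc := allB_spec cocM_ok (64 * d (gA 0) + d (gA 1)) (by have := d64 (gA 0); have := d64 (gA 1); omega)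
  simp only [cocM, show (64 * d (gA 0) + d (gA 1)) / 64 = d (gA 0) by have := d64 (gA 1); omega,
    show (64 * d (gA 0) + d (gA 1)) % 64 = d (gA 1) by have := d64 (gA 1); omega, Bool.or_eq_true,
    List.any_eq_true, List.mem_range, Bool.and_eq_true, Nat.beq_eq, Bool.not_eq_true'] at hc
  simp only [witOK, Bool.and_eq_true, List.all_eq_true, Nat.blt_eq, Nat.beq_eq] at hwit
  rcases hc with (⟨e, he, hne⟩ | ⟨v, hv, hx, hy⟩) | ⟨e, he, hne⟩
  · exfalso
    obtain ⟨he1, he2⟩ := hwit.1 e he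
    rw [hdC _ (nx_facts he1 he2).1, hdC _ he2, dmul _ he1 _ he2] at hne
    have heq : (bif Nat.beq e.1 0 then d (gA 0) else d (gA 1)) = d (gA e.1) := by
      rcases (show e.1 = 0 ∨ e.1 = 1 by omega) with h | h <;> rw [h] <;> rfl
    rw [heq] at hne
    exact Bool.noConfusion (hne.symm.trans (Nat.beq_refl _))
  swap
  · exfalso
    obtain ⟨⟨⟨⟨ha, hb⟩, hT⟩, hw⟩, hcomm⟩ := hwit.2 e he
    obtain ⟨hqa, hCa, -⟩ := lift_k F ha
    obtain ⟨hqb, hCb, -⟩ := lift_k F hb
    rw [hdC _ ha, hdC _ hb] at hne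
    obtain ⟨k, hk⟩ := exists_prod _ hT _ hqa
    have hk' : IsProd (qA e.2.1) e.2.2.1 k := ⟨hk.1, by
      rw [← hk.2, ← Bit.toMat_bmul, ← Bit.toMat_bmul]
      exact congrArg (Bit.toMat 7) hcomm.symm⟩
    have e1 : κ e.2.2.1 * κ (qA e.1) * (κ e.2.2.1)⁻¹ = κ (qA e.2.1) :=
      mul_inv_eq_iff_eq_mul.2 ((kmul _ hT _ hqa k hk).symm.trans (kmul _ hqb _ hT k hk'))
    have e2 : κ e.2.2.1 * (elt F e.2.2.2 * κ (qA e.1)) * (κ e.2.2.1)⁻¹ =
        elt F (app e.2.2.1 e.2.2.2) * κ (qA e.2.1) := by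
      rw [← conj_mul, (kgood _ hT).1 _ hw, e1]
    rw [dspec _ ha, dspec _ hb, ← mul_assoc (elt F e.2.2.2), ← mul_assoc (elt F (app _ _)), elt_mul F hw (d64 _),
      elt_mul F (app_lt _ _) (d64 _)] at e2
    have hx1 : e.2.2.2 ^^^ d e.1 < 64 := Nat.xor_lt_two_pow (n := 6) hw (d64 _)
    have hx2 : app e.2.2.1 e.2.2.2 ^^^ d e.2.1 < 64 := Nat.xor_lt_two_pow (n := 6) (app_lt _ _) (d64 _)
    have := cmemM_conj F hm ((elt_inC hx1).mul hCa) ((elt_inC hx2).mul hCb) (g := κ e.2.2.1) (by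
      rw [F.mul (elt_inC hx1) hCa, F.mul (elt_inC hx2) hCb]; exact e2)
    exact Bool.noConfusion (hne.symm.trans ((congrArg (fun x => Nat.beq x _) this).trans (Nat.beq_refl _)))
  · refine ⟨fun i => elt F v * κ i * elt F v, fun i hi w hw => ?_, fun i hi j hj k hk => ?_, ?_⟩
    · rw [mul_inv_rev, mul_inv_rev, elt_inv F hv, show elt F v * κ i * elt F v * elt F w *
        (elt F v * ((κ i)⁻¹ * elt F v)) = elt F v * (κ i * (elt F v * elt F w * elt F v) * (κ i)⁻¹) * elt F v by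
        group, elt_comm F hv hw, mul_assoc (elt F w), elt_sq F hv, mul_one, (kgood i hi).1 w hw,
        elt_comm F hv (app_lt _ _), mul_assoc, elt_sq F hv, mul_one]
    · show elt F v * κ k * elt F v = _ * (elt F v * κ j * elt F v)
      rw [kmul i hi j hj k hk]
      calc elt F v * (κ i * κ j) * elt F v = elt F v * κ i * 1 * κ j * elt F v := by group
        _ = _ := by rw [← elt_sq F hv]; group
    · have hd : ∀ a < 48, d a ^^^ dS a = v ^^^ app (qA a) v := by
        intro a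
        induction hn : pk parA 10 a / 128 using Nat.strong_induction_on generalizing a with
        | _ n ih =>
          intro ha
          have h := allB_spec treeA_ok a ha
          simp only [treeAOK, Bool.or_eq_true, Bool.and_eq_true, Nat.blt_eq, Nat.beq_eq] at h
          rcases h.2 with rfl | ⟨⟨⟨h1, h2⟩, h3'⟩, h4⟩
          · rw [d0, dS_ok.2.2, hqe, app_id v hv, Nat.xor_self, Nat.xor_self]
          · have hg' : d (gA (pk parA 10 a % 2)) ^^^ dS (gA (pk parA 10 a % 2)) = v ^^^ app (qA (gA (pk parA 10 a % 2))) v := by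
              rcases (show pk parA 10 a % 2 = 0 ∨ pk parA 10 a % 2 = 1 by omega) with e | e <;> rw [e]
              exacts [hx, hy]
            rw [← h4, dmul _ h1 _ h2, hSmul _ h1 _ h2, xor4, hg', ← app_xor, ih _ (hn ▸ h3') _ rfl h2,
              isProd_app (lift_k F (hg _ h1)).1 (lift_k F h2).1 (nx_facts h1 h2).2.2 v hv, app_xor,
              Nat.xor_assoc, ← Nat.xor_assoc (app _ v), Nat.xor_self, Nat.zero_xor]
      intro a ha
      show elt F v * κ (qA a) * elt F v = _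
      rw [dspec a ha, mul_assoc (elt F v), mul_assoc (elt F (d a)),
        (lift_k F ha).2.2.push F hv, ← mul_assoc, ← mul_assoc, elt_mul F hv (d64 a),
        elt_mul F (Nat.xor_lt_two_pow (n := 6) hv (d64 a)) (app_lt _ _)]
      refine congrArg (fun x => elt F x * F.f (kA1 a)) ?_
      exact shift (hd a ha)

/-- one side of the amalgam -/
theorem exists_sextet (F : Frame G t) (hm : mask F = 121) : Nonempty (Sx F) := by
  classical
  obtain ⟨κ, hlift, kmul, hk⟩ := exists_complement hm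
  let g : ℕ → G := fun a =>
    if h : InM a then elt F (Classical.choose h % 64) * κ (Classical.choose h / 64) else 1
  have gmd : ∀ i < 2160, ∀ v < 64, g (md (64 * i + v)) = elt F v * κ i := by
    intro i hi v hv
    have h : InM (md (64 * i + v)) := inM_md hi hv
    simp only [g, dif_pos h]
    obtain ⟨hk', he⟩ := Classical.choose_spec h
    have he' : md (64 * (Classical.choose h / 64) + Classical.choose h % 64) = md (64 * i + v) := by
      rw [Nat.div_add_mod]; exact he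
    obtain ⟨e1, e2⟩ := md_inj (by omega) hi (Nat.mod_lt _ (by norm_num)) hv he'
    rw [e1, e2]
  refine ⟨⟨g, ?_, ?_, ?_⟩⟩
  · intro a b ha hb
    obtain ⟨i, hi, v, hv, rfl⟩ := inM_cases ha
    obtain ⟨j, hj, w, hw, rfl⟩ := inM_cases hb
    obtain ⟨k, hk'⟩ := exists_prod i hi j hj
    rw [md_mul hi hj hk' hv hw, gmd k hk'.1 _ (Nat.xor_lt_two_pow (n := 6) hv (app_lt _ _)), gmd i hi v hv,
      gmd j hj w hw, kmul i hi j hj k hk', ← elt_mul F hv (app_lt _ _), mul_assoc, ← mul_assoc (elt F (app i w)),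
      ← Lift.push F (hlift i hi) hw]
    simp only [mul_assoc]
  · intro a b ha hb h
    obtain ⟨i, hi, v, hv, rfl⟩ := inM_cases ha
    obtain ⟨j, hj, w, hw, rfl⟩ := inM_cases hb
    rw [gmd i hi v hv, gmd j hj w hw] at h
    have hij : i = j := by
      refine app_inj_index hi hj fun u hu => elt_inj F (app_lt _ _) (app_lt _ _) ?_
      have e1 : ∀ i v, v < 64 → i < 2160 → (elt F v * κ i) * elt F u * (elt F v * κ i)⁻¹ = elt F (app i u) := by
        intro i v hv hi
        rw [mul_inv_rev, show elt F v * κ i * elt F u * ((κ i)⁻¹ * (elt F v)⁻¹) =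
          elt F v * (κ i * elt F u * (κ i)⁻¹) * (elt F v)⁻¹ by group, hlift i hi u hu, elt_comm F hv (app_lt _ _),
          mul_inv_cancel_right]
      rw [← e1 i v hv hi, ← e1 j w hw hj, h]
    subst hij
    rw [elt_inj F hv hw (mul_right_cancel h)]
  · intro a ha v hv
    rw [gmd _ (lift_k F ha).1 _ hv, hk _ ha, ← mul_assoc,
      elt_mul F hv (by simpa using allB_spec dS_ok.2.1 a ha)]

end Cfsg.Agent.TransvUniq.M24.Sextet
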