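import Cfsg.Agent.Lib.HeUniq.Local.SideDefs

/-!
Checks behind the sextet side in a group with fusion mask 121: the data of the Held side serve, except that the
complement differs by a cocycle.
-/

set_option autoImplicit false
set_option maxRecDepth 100000

namespace Cfsg.Agent.TransvUniq.M24.Sextet

open Cfsg.Agent.HeUniq.Model Cfsg.Agent.HeUniq.Fus Cfsg.Agent.HeUniq.Local

/-- The membership of the class. -/
def cmemM (a : ℕ) : ℕ := memV 121 (cls a)

/-- All four translates are in the class. -/
def pureM (s i : ℕ) : Bool := (fourS s).all fun w => Nat.beq (cmemM (mC (hA s i) w)) 1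

/-- Elements with the colour are listed. -/
def colourM (s i : ℕ) : Bool :=
  !pureM s i || ((List.range (nP s)).any fun p => Nat.beq (pP s p) i) ||
    !Nat.beq (cnt (fun j => commC (hA s i) (hA s j)) 204) (kP s)

/-- The chosen pair. -/
def baseM (s : ℕ) : Bool :=
  Nat.blt (p0 s) (nP s) && Nat.blt (q0 s) (nP s) && (rowP s (p0 s)).testBit (pP s (q0 s)) &&
    pureM s (pP s (p0 s)) && pureM s (pP s (q0 s)) &&
    Nat.beq (cnt (fun j => commC (hA s (pP s (p0 s))) (hA s j)) 204) (kP s) &&
    Nat.beq (cnt (fun j => commC (hA s (pP s (q0 s))) (hA s j)) 204) (kP s) &&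
    Nat.beq (cnt (fun j => (rowP s (p0 s)).testBit j && (rowP s (q0 s)).testBit j) 204) 60 &&
    (List.range 6).all fun k => (fourS s).any (fun w => Nat.beq w (eA (2 ^ k))) ||
      (Nat.blt (unitA s k) 204 && Nat.beq (hA s (unitA s k)) (eA (2 ^ k)) &&
        (rowP s (p0 s)).testBit (unitA s k) && (rowP s (q0 s)).testBit (unitA s k))

/-- The membership is read on the elementary group. -/
def eM (v : ℕ) : Bool := Nat.beq v 0 || Nat.beq (cmemM (eA v)) (smem v)

/-- The cocycle of the sextet side. -/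
def dS (a : ℕ) : ℕ := dC 32 8 7 a

/-- The twist is a cocycle. -/
def dSOK (o : ℕ) : Bool :=
  Nat.blt (dS (nxA (o / 48) (o % 48))) 64 && Nat.beq (dS (nxA (o / 48) (o % 48)))
    (Nat.xor (dS (gA (o / 48))) (app (qA (gA (o / 48))) (dS (o % 48))))

/-- A pair of first values is inconsistent, differs from the twist by a coboundary, or is refuted by a witness. -/
def cocM (o : ℕ) : Bool :=
  let x := o / 64
  let y := o % 64
  (cedList.any fun e => !Nat.beq (dC x y 7 (nxA e.1 e.2))
      (Nat.xor (bif Nat.beq e.1 0 then x else y) (app (qA (gA e.1)) (dC x y 7 e.2)))) ||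
    ((List.range 64).any fun v => Nat.beq (Nat.xor x (dS (gA 0))) (Nat.xor v (app (qA (gA 0)) v)) &&
      Nat.beq (Nat.xor y (dS (gA 1))) (Nat.xor v (app (qA (gA 1)) v))) ||
    witList.any fun e => !Nat.beq (cmemM (mC (eA (Nat.xor e.2.2.2 (dC x y 7 e.1))) (kA1 e.1)))
      (cmemM (mC (eA (Nat.xor (app e.2.2.1 e.2.2.2) (dC x y 7 e.2.1))) (kA1 e.2.1)))

end Cfsg.Agent.TransvUniq.M24.Sextet
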